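import Groth.Agent.SiteBase.Rpush
import Mathlib.CategoryTheory.Sites.LeftExact

/-!
# Sections of higher direct images over opens without cohomology
-/

noncomputable section

set_option autoImplicit false
set_option maxHeartbeats 1000000
set_option backward.isDefEq.respectTransparency false
set_option backward.isDefEq.respectTransparency.types false

universe u

open CategoryTheory CategoryTheory.Limits Opposite CategoryTheory.Abelian

namespace Groth.Agent.H26.Edge

variable {C D : Type u} [SmallCategory C] [SmallCategory D]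
  (J : GrothendieckTopology C) (K : GrothendieckTopology D) (u : D ⥤ C) [u.IsContinuous K J]

/-- The presheaf `V ↦ H^q(u V, -)`. -/
abbrev Hp (q : ℕ) : Sheaf J AddCommGrpCat.{u} ⥤ Dᵒᵖ ⥤ AddCommGrpCat.{u} :=
  Sheaf.cohomologyPresheafFunctor.{u} J q ⋙ SiteBase.precomp u

/-- Its sheafification. -/
abbrev Hs (q : ℕ) : Sheaf J AddCommGrpCat.{u} ⥤ Sheaf K AddCommGrpCat.{u} :=
  Hp J u q ⋙ presheafToSheaf K AddCommGrpCat.{u}

/-- Over the objects of `B` the presheaf has the sections of its sheafification. -/
def Good (B : D → Prop) (q : ℕ) (F : Sheaf J AddCommGrpCat.{u}) : Prop :=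
  ∀ V, B V → Function.Bijective ((toSheafify K ((Hp J u q).obj F)).app (op V)).hom

variable {J K u} {B : D → Prop}

omit [u.IsContinuous K J] in
lemma Good.of_iso {q : ℕ} {F : Sheaf J AddCommGrpCat.{u}} {P : Dᵒᵖ ⥤ AddCommGrpCat.{u}}
    (e : (Hp J u q).obj F ≅ P) (h : ∀ V, B V → Function.Bijective ((toSheafify K P).app (op V)).hom) :
    Good J K u B q F := fun V hV => by
  have w : (toSheafify K ((Hp J u q).obj F)).app (op V) =
      e.hom.app (op V) ≫ (toSheafify K P).app (op V) ≫
        ((presheafToSheaf K AddCommGrpCat.{u}).map e.inv).hom.app (op V) := by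
    have n := congrArg (fun t : P ⟶ sheafify K ((Hp J u q).obj F) => t.app (op V)) (toSheafify_naturality K e.inv)
    simp only [NatTrans.comp_app] at n
    rw [show ((presheafToSheaf K AddCommGrpCat.{u}).map e.inv).hom = sheafifyMap K e.inv from rfl, ← n,
      ← Category.assoc, ← NatTrans.comp_app, Iso.hom_inv_id, NatTrans.id_app, Category.id_comp]
  rw [w]
  haveI : IsIso (((presheafToSheaf K AddCommGrpCat.{u}).map e.inv).hom.app (op V)) :=
    inferInstanceAs (IsIso (((presheafToSheaf K AddCommGrpCat.{u} ⋙ sheafToPresheaf K _).map e.inv).app (op V)))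
  exact ((ConcreteCategory.bijective_of_isIso (((presheafToSheaf K AddCommGrpCat.{u}).map e.inv).hom.app (op V))).comp
    (h V hV)).comp (ConcreteCategory.bijective_of_isIso (e.hom.app (op V)))

variable (J K u) in
/-- Degree zero. -/
def hpZero (F : Sheaf J AddCommGrpCat.{u}) : (Hp J u 0).obj F ≅ ((CohSite.push J K u).obj F).obj :=
  Functor.isoWhiskerLeft u.op (((SiteBase.rightDerivedIsoCohomology 0).symm ≪≫
    (sheafToPresheaf J AddCommGrpCat.{u}).rightDerivedZeroIsoSelf).app F)

lemma isIso_toSheafify_sheaf (P : Sheaf K AddCommGrpCat.{u}) : IsIso (toSheafify K P.obj) :=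
  isIso_toSheafify K P.property

lemma good_zero (F : Sheaf J AddCommGrpCat.{u}) : Good J K u B 0 F :=
  Good.of_iso (hpZero J K u F) fun V _ => by
    haveI := isIso_toSheafify_sheaf ((CohSite.push J K u).obj F)
    exact ConcreteCategory.bijective_of_isIso _

variable {S : ShortComplex (Sheaf J AddCommGrpCat.{u})} (hS : S.ShortExact)

variable (u) in
omit [u.IsContinuous K J] in
/-- The connecting map. -/
def delta (q : ℕ) : (Hp J u q).obj S.X₃ ⟶ (Hp J u (q + 1)).obj S.X₁ where
  app V := AddCommGrpCat.ofHom (hS.extClass.postcomp (CohCx.freeSheaf J (u.obj V.unop)) (rfl : q + 1 = q + 1))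
  naturality V W g := by
    ext x
    show (Ext.comp (Ext.comp (Ext.mk₀ _) x (zero_add q)) hS.extClass rfl) =
      Ext.comp (Ext.mk₀ _) (Ext.comp x hS.extClass rfl) (zero_add (q + 1))
    exact Ext.comp_assoc _ _ _ (zero_add q) rfl (by omega)

lemma delta_bijective [Injective S.X₂] (q : ℕ) (V : D) :
    Function.Bijective ((delta u hS (q + 1)).app (op V)).hom := by
  constructor
  · refine (injective_iff_map_eq_zero _).2 fun (x : Ext (CohCx.freeSheaf J (u.obj V)) S.X₃ (q + 1)) hx => ?_
    obtain ⟨y, rfl⟩ := Ext.covariant_sequence_exact₃ (CohCx.freeSheaf J (u.obj V)) hS x rfl hx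
    rw [Ext.eq_zero_of_injective y, Ext.zero_comp]
  · intro (x : Ext (CohCx.freeSheaf J (u.obj V)) S.X₁ (q + 2))
    obtain ⟨y, hy⟩ := Ext.covariant_sequence_exact₁ (CohCx.freeSheaf J (u.obj V)) hS x
      (Ext.eq_zero_of_injective _) (n₀ := q + 1) rfl
    exact ⟨y, hy⟩

/-- Higher degrees for the kernel in terms of the cokernel. -/
def deltaIso [Injective S.X₂] (q : ℕ) : (Hp J u (q + 1)).obj S.X₃ ≅ (Hp J u (q + 2)).obj S.X₁ :=
  haveI : ∀ V, IsIso ((delta u hS (q + 1)).app V) := fun V =>
    (ConcreteCategory.isIso_iff_bijective _).2 (delta_bijective hS q V.unop)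
  haveI := NatIso.isIso_of_isIso_app (delta u hS (q + 1))
  asIso (delta u hS (q + 1))

/-- The end of the sequence in low degrees. -/
def lowPre (hS : S.ShortExact) : ShortComplex (Dᵒᵖ ⥤ AddCommGrpCat.{u}) :=
  ShortComplex.mk ((Hp J u 0).map S.g) (delta u hS 0) (by
    ext V x
    show Ext.comp (Ext.comp (show Ext (CohCx.freeSheaf J (u.obj V.unop)) S.X₂ 0 from x) (Ext.mk₀ S.g) (add_zero 0))
      hS.extClass rfl = 0
    rw [Ext.comp_assoc_of_second_deg_zero, hS.comp_extClass, Ext.comp_zero])

lemma lowPre_exact : (lowPre (u := u) hS).Exact := by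
  refine ((lowPre (u := u) hS).exact_iff_isZero_homology).2 ?_
  refine Functor.isZero _ fun V => ?_
  refine IsZero.of_iso ?_ ((ShortComplex.mapHomologyIso (lowPre (u := u) hS) ((evaluation _ _).obj V)).symm)
  refine (ShortComplex.exact_iff_isZero_homology _).1 ((ShortComplex.ab_exact_iff _).2 fun x hx => ?_)
  obtain ⟨y, hy⟩ := Ext.covariant_sequence_exact₃ (CohCx.freeSheaf J (u.obj V.unop)) hS
    (show Ext (CohCx.freeSheaf J (u.obj V.unop)) S.X₃ 0 from x) (rfl : 0 + 1 = 1) hx
  exact ⟨y, hy⟩

lemma delta_zero_surjective [Injective S.X₂] (V : D) :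
    Function.Surjective ((delta u hS 0).app (op V)).hom := by
  intro (x : Ext (CohCx.freeSheaf J (u.obj V)) S.X₁ 1)
  obtain ⟨y, hy⟩ := Ext.covariant_sequence_exact₁ (CohCx.freeSheaf J (u.obj V)) hS x
    (Ext.eq_zero_of_injective _) (n₀ := 0) rfl
  exact ⟨y, hy⟩

lemma isIso_map_toSheafify_zero (F : Sheaf J AddCommGrpCat.{u}) : IsIso (toSheafify K ((Hp J u 0).obj F)) := by
  haveI := isIso_toSheafify_sheaf ((CohSite.push J K u).obj F)
  rw [show toSheafify K ((Hp J u 0).obj F) = (hpZero J K u F).hom ≫ toSheafify K _ ≫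
      sheafifyMap K (hpZero J K u F).inv from by
    rw [← toSheafify_naturality, Iso.hom_inv_id_assoc]]
  infer_instance

/-- Vanishing of the cohomology of the higher direct images over `B`. -/
def Vanish (B : D → Prop) (F : Sheaf J AddCommGrpCat.{u}) : Prop :=
  ∀ i j V, B V → Subsingleton (CohSite.HU ((Hs J K u i).obj F) (j + 1) V)

lemma subsingleton_of_iso {F G : Sheaf K AddCommGrpCat.{u}} (e : F ≅ G) {q : ℕ} {V : D}
    (h : Subsingleton (CohSite.HU F q V)) : Subsingleton (CohSite.HU G q V) := by
  have e' : CohSite.HU F q V ≃+ CohSite.HU G q V :=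
    ((Sheaf.cohomologyPresheafFunctor.{u} K q).mapIso e |>.app (op V)).addCommGroupIsoToAddEquiv
  exact e'.symm.toEquiv.subsingleton

variable (hI : ∀ (I : Sheaf J AddCommGrpCat.{u}), Injective I → Injective ((CohSite.push J K u).obj I))

include hI hS in
lemma vanish_X₃_and_surjective [Injective S.X₂] (h : Vanish (K := K) (u := u) B S.X₁) :
    Vanish (K := K) (u := u) B S.X₃ ∧ ∀ V, B V →
      Function.Surjective (((presheafToSheaf K AddCommGrpCat.{u}).map (delta u hS 0)).hom.app (op V)).hom ∧
      Function.Exact (((presheafToSheaf K AddCommGrpCat.{u}).map ((Hp J u 0).map S.g)).hom.app (op V)).hom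
        (((presheafToSheaf K AddCommGrpCat.{u}).map (delta u hS 0)).hom.app (op V)).hom := by
  let E := presheafToSheaf K AddCommGrpCat.{u}
  let g' := E.map ((Hp J u 0).map S.g)
  let d' := E.map (delta u hS 0)
  have hT : ((lowPre (u := u) hS).map E).Exact := (lowPre_exact hS).map E
  haveI : Epi (delta u hS 0) := by
    haveI : ∀ V, Epi ((delta u hS 0).app V) := fun V =>
      (AddCommGrpCat.epi_iff_surjective _).2 (delta_zero_surjective hS V.unop)
    exact NatTrans.epi_of_epi_app _
  haveI : Epi d' := inferInstanceAs (Epi (E.map (delta u hS 0)))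
  -- degree zero
  let z : ∀ F : Sheaf J AddCommGrpCat.{u}, (Hs J K u 0).obj F ≅ (CohSite.push J K u).obj F := fun F =>
    E.mapIso (hpZero J K u F) ≪≫
      (show E.obj ((CohSite.push J K u).obj F).obj ≅ (CohSite.push J K u).obj F from
        asIso ((sheafificationAdjunction K AddCommGrpCat.{u}).counit.app ((CohSite.push J K u).obj F)))
  haveI : Injective ((Hs J K u 0).obj S.X₂) := Injective.of_iso (z S.X₂).symm (hI _ inferInstance)
  let T₁ := ShortComplex.mk (kernel.ι g') (Abelian.factorThruImage g') (by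
    rw [← cancel_mono (Abelian.image.ι g'), Category.assoc, Abelian.image.fac, zero_comp, kernel.condition])
  have hT₁ : T₁.ShortExact :=
    { exact := ShortComplex.exact_of_f_is_kernel _
        (isKernelOfComp (Abelian.image.ι g') _ (kernelIsKernel g') T₁.zero (Abelian.image.fac g')) }
  let T₂ : ShortComplex (Sheaf K AddCommGrpCat.{u}) := ShortComplex.mk (Abelian.image.ι g') d' (by
      rw [← cancel_epi (Abelian.factorThruImage g'), ← Category.assoc, Abelian.image.fac, comp_zero]
      exact ((lowPre (u := u) hS).map E).zero)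
  let φT : (lowPre (u := u) hS).map E ⟶ T₂ :=
    { τ₁ := Abelian.factorThruImage g'
      τ₂ := 𝟙 _
      τ₃ := 𝟙 _
      comm₁₂ := (Abelian.image.fac g').trans (Category.comp_id _).symm
      comm₂₃ := (Category.id_comp _).trans (Category.comp_id _).symm }
  haveI : Epi φT.τ₁ := inferInstanceAs (Epi (Abelian.factorThruImage g'))
  haveI : IsIso φT.τ₂ := inferInstanceAs (IsIso (𝟙 _))
  haveI : Mono φT.τ₃ := inferInstanceAs (Mono (𝟙 _))
  have hT₂ : T₂.ShortExact :=
    { exact := (ShortComplex.exact_iff_of_epi_of_isIso_of_mono φT).1 hT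
      mono_f := inferInstanceAs (Mono (Abelian.image.ι g'))
      epi_g := inferInstanceAs (Epi d') }
  -- the kernel is the direct image of the kernel
  have hker : ∀ j V, B V → Subsingleton (CohSite.HU (kernel g') (j + 1) V) := fun j V hV => by
    haveI := hS.mono_f
    refine subsingleton_of_iso (?_ : (Hs J K u 0).obj S.X₁ ≅ kernel g') (h 0 j V hV)
    have e : g' ≫ (z S.X₃).hom = (z S.X₂).hom ≫ (CohSite.push J K u).map S.g := by
      simp only [z, g', Iso.trans_hom, Functor.mapIso_hom, asIso_hom, ← Category.assoc, ← Functor.map_comp]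
      rw [show (Hp J u 0).map S.g ≫ (hpZero J K u S.X₃).hom =
        (hpZero J K u S.X₂).hom ≫ (sheafToPresheaf K _).map ((CohSite.push J K u).map S.g) from
          congrArg (Functor.whiskerLeft u.op) (((SiteBase.rightDerivedIsoCohomology 0).symm ≪≫
            (sheafToPresheaf J AddCommGrpCat.{u}).rightDerivedZeroIsoSelf).hom.naturality S.g)]
      rw [Functor.map_comp, Category.assoc, Category.assoc]
      exact congrArg _ ((sheafificationAdjunction K AddCommGrpCat.{u}).counit.naturality _)
    haveI : PreservesFiniteLimits (CohSite.push J K u) := inferInstance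
    exact z S.X₁ ≪≫ (IsLimit.conePointUniqueUpToIso
      (isLimitForkMapOfIsLimit' (CohSite.push J K u) S.zero hS.fIsKernel)
      (kernelIsKernel ((CohSite.push J K u).map S.g))) ≪≫
      (kernel.mapIso g' ((CohSite.push J K u).map S.g) (z S.X₂) (z S.X₃) e).symm
  have him : ∀ j V, B V → Subsingleton (CohSite.HU (Abelian.image g') (j + 1) V) := fun j V hV =>
    SiteBase.subsingleton_HU_X₃ hT₁ _ (j + 1) (hker (j + 1) V hV)
      (SiteBase.subsingleton_HU_of_injective ((Hs J K u 0).obj S.X₂) _ j)
  refine ⟨fun i j V hV => ?_, fun V hV => ⟨?_, ?_⟩⟩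
  · match i with
    | 0 => exact SiteBase.subsingleton_HU_X₂ hT₂ _ (j + 1) (him j V hV) (h 1 j V hV)
    | i + 1 => exact subsingleton_of_iso (E.mapIso (deltaIso hS i)).symm (h (i + 2) j V hV)
  · exact SiteBase.surjective_sections_of_HU_one hT₂ _ (him 0 V hV)
  · intro y
    constructor
    · intro hy
      haveI := hT₂.mono_f
      have hk := KernelFork.mapIsLimit _ hT₂.fIsKernel
        (sheafToPresheaf K AddCommGrpCat.{u} ⋙ (evaluation _ _).obj (op V))
      obtain ⟨w, hw⟩ := (ShortComplex.ab_exact_iff _).1 (ShortComplex.exact_of_f_is_kernel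
        (T₂.map
          (sheafToPresheaf K AddCommGrpCat.{u} ⋙ (evaluation _ _).obj (op V))) hk) y hy
      obtain ⟨x, hx⟩ := SiteBase.surjective_sections_of_HU_one hT₁ _ (hker 0 V hV) w
      refine ⟨x, ?_⟩
      rw [← hw, ← hx]
      exact (congrArg (fun t : (Hs J K u 0).obj S.X₂ ⟶ (Hs J K u 0).obj S.X₃ => t.hom.app (op V) x)
        (Abelian.image.fac g').symm)
    · rintro ⟨x, rfl⟩
      exact congrArg (fun t : (Hs J K u 0).obj S.X₂ ⟶ (Hs J K u 1).obj S.X₁ => t.hom.app (op V) x)
        ((lowPre (u := u) hS).map E).zero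

include hI in
/-- Over opens where the higher direct images have no higher cohomology, the cohomology presheaf has
the sections of the higher direct image. -/
theorem good_of_vanish (q : ℕ) : ∀ (F : Sheaf J AddCommGrpCat.{u}), Vanish (K := K) (u := u) B F →
    Good J K u B q F := by
  induction q with
  | zero => exact fun F _ => good_zero F
  | succ q ih =>
    intro F h
    have hS := SiteBase.injectiveSES_shortExact F
    obtain ⟨hQ, hlow⟩ := vanish_X₃_and_surjective hS hI (B := B) h
    match q with
    | 0 =>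
      intro V hV
      have : IsIso (toSheafify K ((Hp J u 0).obj (SiteBase.injectiveSES F).X₂)) := isIso_map_toSheafify_zero _
      have : IsIso (toSheafify K ((Hp J u 0).obj (SiteBase.injectiveSES F).X₃)) := isIso_map_toSheafify_zero _
      obtain ⟨hsur, hex⟩ := hlow V hV
      let η₂ := (toSheafify K ((Hp J u 0).obj (SiteBase.injectiveSES F).X₂)).app (op V)
      let η₃ := (toSheafify K ((Hp J u 0).obj (SiteBase.injectiveSES F).X₃)).app (op V)
      have b₂ := ConcreteCategory.bijective_of_isIso η₂
      have b₃ := ConcreteCategory.bijective_of_isIso η₃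
      have n₂ : ∀ x, η₃.hom (((Hp J u 0).map (SiteBase.injectiveSES F).g).app (op V) x) =
          ((presheafToSheaf K AddCommGrpCat.{u}).map ((Hp J u 0).map (SiteBase.injectiveSES F).g)).hom.app (op V)
            (η₂.hom x) := fun x =>
        congrArg (fun t => t.app (op V) x) (toSheafify_naturality K ((Hp J u 0).map (SiteBase.injectiveSES F).g))
      have n₃ : ∀ x, ((toSheafify K ((Hp J u 1).obj F)).app (op V)).hom ((delta u hS 0).app (op V) x) =
          ((presheafToSheaf K AddCommGrpCat.{u}).map (delta u hS 0)).hom.app (op V) (η₃.hom x) := fun x =>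
        congrArg (fun t => t.app (op V) x) (toSheafify_naturality K (delta u hS 0))
      constructor
      · refine (injective_iff_map_eq_zero _).2 fun y hy => ?_
        obtain ⟨x, rfl⟩ := delta_zero_surjective hS V y
        obtain ⟨w, hw⟩ := (hex _).1 ((n₃ x).symm.trans hy)
        obtain ⟨w', rfl⟩ := b₂.2 w
        rw [b₃.1 (hw.symm.trans (n₂ w').symm)]
        exact congrArg (fun t => t.app (op V) w') (lowPre (u := u) hS).zero
      · intro y
        obtain ⟨x, hx⟩ := hsur y
        obtain ⟨x', rfl⟩ := b₃.2 x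
        exact ⟨_, (n₃ x').trans hx⟩
    | q + 1 => exact Good.of_iso (deltaIso hS q).symm (ih _ hQ)

end Groth.Agent.H26.Edge
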