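import Mathlib.Topology.Sheaves.Sheafify
import Mathlib.Topology.Sheaves.Stalks
import Groth.Prelude.Def_CohTop

/-!
# Maps out of a sheafification that are bijective on a basis
-/

noncomputable section

set_option autoImplicit false
set_option backward.isDefEq.respectTransparency false
set_option backward.isDefEq.respectTransparency.types false

universe u

open CategoryTheory CategoryTheory.Limits TopologicalSpace Opposite

namespace Groth.Agent.H26.Edge

variable {X : TopCat.{u}}

/-- Bijectivity on a basis gives bijectivity on stalks. -/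
lemma bijective_stalk_of_basis {B : Opens X → Prop} (hB : Opens.IsBasis {U | B U})
    {P Q : TopCat.Presheaf AddCommGrpCat.{u} X} (ψ : P ⟶ Q)
    (h : ∀ U, B U → Function.Bijective (ψ.app (op U)).hom) (x : X) :
    Function.Bijective ((TopCat.Presheaf.stalkFunctor AddCommGrpCat.{u} x).map ψ).hom := by
  constructor
  · refine (injective_iff_map_eq_zero _).2 fun s hs => ?_
    obtain ⟨U, hxU, t, rfl⟩ := P.exists_germ_eq s
    rw [TopCat.Presheaf.stalkFunctor_map_germ_apply, ← map_zero (Q.germ U x hxU).hom] at hs
    obtain ⟨W, hW, i, j, hij⟩ := Q.germ_eq x hxU hxU _ _ hs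
    obtain ⟨V, hV, hxV, hVW⟩ := Opens.isBasis_iff_nbhd.1 hB hW
    have e : P.map (homOfLE (hVW.trans i.le)).op t = 0 := by
      refine (h V hV).1 ((NatTrans.naturality_apply ψ (homOfLE (hVW.trans i.le)).op t).trans ?_)
      rw [map_zero, Subsingleton.elim (homOfLE (hVW.trans i.le)) (homOfLE hVW ≫ i), op_comp, Functor.map_comp]
      show (Q.map _).hom ((Q.map i.op).hom _) = 0
      rw [hij, map_zero, map_zero]
    exact (TopCat.Presheaf.germ_res_apply P (homOfLE (hVW.trans i.le)) x hxV t).symm.trans
      ((congrArg _ e).trans (map_zero _))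
  · intro s
    obtain ⟨U, hxU, t, rfl⟩ := Q.exists_germ_eq s
    obtain ⟨V, hV, hxV, hVU⟩ := Opens.isBasis_iff_nbhd.1 hB hxU
    obtain ⟨r, hr⟩ := (h V hV).2 (Q.map (homOfLE hVU).op t)
    refine ⟨P.germ V x hxV r, ?_⟩
    rw [TopCat.Presheaf.stalkFunctor_map_germ_apply]
    exact (congrArg _ hr).trans (TopCat.Presheaf.germ_res_apply Q (homOfLE hVU) x hxV t)

/-- A map out of a sheafification that is bijective on a basis is an isomorphism. -/
lemma isIso_of_basis {B : Opens X → Prop} (hB : Opens.IsBasis {U | B U})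
    {P : TopCat.Presheaf AddCommGrpCat.{u} X} {Q : CohTop.Ab X}
    (φ : (presheafToSheaf (Opens.grothendieckTopology X) AddCommGrpCat.{u}).obj P ⟶ Q)
    (h : ∀ U, B U → Function.Bijective
      ((CategoryTheory.toSheafify (Opens.grothendieckTopology X) P ≫ φ.hom).app (op U)).hom) : IsIso φ := by
  haveI : ∀ x : X, IsIso ((TopCat.Presheaf.stalkFunctor AddCommGrpCat.{u} x).map φ.hom) := fun x => by
    haveI := TopCat.Presheaf.stalkFunctor_map_unit_toSheafify_isIso x AddCommGrpCat.{u} P
    have hb := bijective_stalk_of_basis hB _ h x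
    haveI : IsIso ((TopCat.Presheaf.stalkFunctor AddCommGrpCat.{u} x).map
        (CategoryTheory.toSheafify (Opens.grothendieckTopology X) P ≫ φ.hom)) :=
      (ConcreteCategory.isIso_iff_bijective _).2 hb
    rw [Functor.map_comp] at this
    exact IsIso.of_isIso_comp_left ((TopCat.Presheaf.stalkFunctor AddCommGrpCat.{u} x).map
      (CategoryTheory.toSheafify (Opens.grothendieckTopology X) P)) _
  exact TopCat.Presheaf.isIso_of_stalkFunctor_map_iso φ

end Groth.Agent.H26.Edge
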