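import Mathlib.CategoryTheory.Abelian.RightDerived

/-!
# Endomorphisms of the identity and derived functors
-/

noncomputable section

set_option autoImplicit false
set_option backward.isDefEq.respectTransparency false

universe v u v' u'

open CategoryTheory CategoryTheory.Limits

namespace Groth.Agent.H26.Edge

variable {A : Type u} [Category.{v} A] [Abelian A] [HasInjectiveResolutions A]
  {B : Type u'} [Category.{v'} B] [Abelian B]

/-- An endomorphism of the identity on a complex. -/
def endCx {C : Type*} [Category C] [Abelian C] (γ : 𝟭 C ⟶ 𝟭 C) (K : CochainComplex C ℕ) : K ⟶ K where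
  f i := γ.app (K.X i)
  comm' i j _ := (γ.naturality (K.d i j)).symm

lemma homologyMap_endCx {C : Type*} [Category C] [Abelian C] (γ : 𝟭 C ⟶ 𝟭 C) (K : CochainComplex C ℕ) (n : ℕ) :
    HomologicalComplex.homologyMap (endCx γ K) n = γ.app (K.homology n) := by
  have h1 : HomologicalComplex.cyclesMap (endCx γ K) n = γ.app (K.cycles n) := by
    rw [← cancel_mono (K.iCycles n), HomologicalComplex.cyclesMap_i]
    exact γ.naturality (K.iCycles n)
  rw [← cancel_epi (K.homologyπ n), HomologicalComplex.homologyπ_naturality, h1]
  exact (γ.naturality (K.homologyπ n)).symm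

/-- If a functor carries one endomorphism of the identity to another, so do its derived functors. -/
theorem rightDerived_map_end (G : A ⥤ B) [G.Additive] (β : 𝟭 A ⟶ 𝟭 A) (γ : 𝟭 B ⟶ 𝟭 B)
    (h : ∀ X, G.map (β.app X) = γ.app (G.obj X)) (n : ℕ) (X : A) :
    (G.rightDerived n).map (β.app X) = γ.app ((G.rightDerived n).obj X) := by
  let P := injectiveResolution X
  have w := InjectiveResolution.isoRightDerivedObj_hom_naturality (β.app X) P P (endCx β P.cocomplex)
    (β.naturality (P.ι.f 0)) G n
  rw [← cancel_mono (P.isoRightDerivedObj G n).hom, w]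
  have e : (G.mapHomologicalComplex _).map (endCx β P.cocomplex) =
      endCx γ ((G.mapHomologicalComplex _).obj P.cocomplex) :=
    HomologicalComplex.Hom.ext (funext fun i => h _)
  rw [Functor.comp_map, e]
  refine (congrArg (_ ≫ ·) (homologyMap_endCx γ _ n)).trans ?_
  exact γ.naturality (P.isoRightDerivedObj G n).hom

end Groth.Agent.H26.Edge
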