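import Groth.Agent.AdicLib.Basic

/-!
# Finiteness of separated filtered modules with finitely generated graded module
-/

noncomputable section

set_option autoImplicit false

open Submodule

namespace Groth.Agent.H26.Edge

variable {R : Type*} [CommRing R] [IsNoetherianRing R] (I : Ideal R) [IsAdicComplete I R]
  {H : Type*} [AddCommGroup H] [Module R H] (F : ℕ → Submodule R H)
  (hmono : ∀ n, F (n + 1) ≤ F n) (hmul : ∀ n, I • F n ≤ F (n + 1)) (hzero : ∀ x, (∀ n, x ∈ F n) → x = 0)
  (hfin : ∀ n, Module.Finite R (H ⧸ F n)) (e : ℕ) (hgen : ∀ j, F (e + j + 1) ≤ I • F (e + j) ⊔ F (e + j + 2))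

include hmul in
omit [IsNoetherianRing R] [IsAdicComplete I R] in
lemma pow_smul_filt (i n : ℕ) : I ^ i • F n ≤ F (n + i) := by
  induction i with
  | zero => rw [pow_zero, Ideal.one_eq_top, Submodule.top_smul]; exact le_rfl
  | succ i ih =>
    rw [pow_succ', Submodule.mul_smul]
    exact (Submodule.smul_mono le_rfl ih).trans (hmul (n + i))

include hmono hmul hzero hfin hgen in
/-- The module is finite and the filtration is adic. -/
theorem finite_and_adic (htop : ∀ x : H, ∀ r ∈ I, r • x ∈ F 0) :
    Module.Finite R H ∧ ∀ j, F (e + j + 1) ≤ I ^ (j + 1) • ⊤ := by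
  classical
  haveI := hfin (e + 1)
  obtain ⟨G₀, hG₀⟩ := Module.Finite.fg_top (R := R) (M := H ⧸ F (e + 1))
  choose lift hlift using fun y => Submodule.Quotient.mk_surjective (F (e + 1)) y
  let G : Submodule R H := span R (G₀.image lift)
  have hGfg : G.FG := ⟨G₀.image lift, rfl⟩
  have hGtop : G ⊔ F (e + 1) = ⊤ := by
    refine eq_top_iff.2 fun x _ => ?_
    have hx : Submodule.Quotient.mk x ∈ G.map (F (e + 1)).mkQ := by
      have h' : span R (G₀ : Set (H ⧸ F (e + 1))) ≤ G.map (F (e + 1)).mkQ := span_le.2 fun y hy =>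
        ⟨lift y, subset_span (Finset.mem_image_of_mem _ hy), hlift y⟩
      exact h' (hG₀.symm ▸ mem_top)
    obtain ⟨g, hg, hgx⟩ := hx
    exact mem_sup.2 ⟨g, hg, x - g, (Submodule.Quotient.eq _).1 hgx.symm, add_sub_cancel _ _⟩
  have hI0 : I • (⊤ : Submodule R H) ≤ F 0 := smul_le.2 fun r hr x _ => htop x r hr
  have hanti : ∀ {a b : ℕ}, a ≤ b → F b ≤ F a := fun {a b} hab => by
    induction b, hab using Nat.le_induction with
    | base => exact le_rfl
    | succ b _ ih => exact (hmono b).trans ih
  have hpow : ∀ i, I ^ (i + 1) • (⊤ : Submodule R H) ≤ F i := fun i => by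
    rw [pow_succ, Submodule.mul_smul]
    exact (Submodule.smul_mono le_rfl hI0).trans ((pow_smul_filt I F hmul i 0).trans (hanti (by omega)))
  have step : ∀ j, F (e + j + 1) ≤ I ^ (j + 1) • G ⊔ F (e + j + 2) := by
    intro j
    induction j with
    | zero =>
      refine (hgen 0).trans (sup_le ?_ le_sup_right)
      rw [zero_add, pow_one]
      refine (Submodule.smul_mono le_rfl (hGtop.symm.le.trans' le_top)).trans ?_
      rw [Submodule.smul_sup]
      exact sup_le_sup le_rfl (hmul _)
    | succ j ih =>
      refine (hgen (j + 1)).trans (sup_le ?_ le_sup_right)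
      refine (Submodule.smul_mono le_rfl ih).trans ?_
      rw [Submodule.smul_sup, ← Submodule.mul_smul, ← pow_succ']
      exact sup_le_sup le_rfl (hmul _)
  haveI : Module.Finite R G := Module.Finite.iff_fg.2 hGfg
  haveI := AdicLib.isAdicComplete_of_finite I G
  have main : ∀ j, F (e + j + 1) ≤ I ^ (j + 1) • G := by
    intro j x hx
    have hnext : ∀ i (y : H), y ∈ F (e + j + i + 1) → ∃ g ∈ I ^ (j + i + 1) • G, y - g ∈ F (e + j + (i + 1) + 1) := by
      intro i y hy
      have hy' := step (j + i) (by rwa [← Nat.add_assoc e j i])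
      obtain ⟨g, hg, z, hz, rfl⟩ := mem_sup.1 hy'
      exact ⟨g, hg, by rw [add_sub_cancel_left]; exact hanti (by omega) hz⟩
    choose nxt hn hn' using hnext
    let r : ∀ i, {y : H // y ∈ F (e + j + i + 1)} := fun i =>
      Nat.rec (motive := fun i => {y : H // y ∈ F (e + j + i + 1)}) ⟨x, hx⟩
        (fun i y => ⟨y.1 - nxt i y.1 y.2, hn' i y.1 y.2⟩) i
    let S : ℕ → H := fun i => x - (r i).1
    have hS : ∀ i, S (i + 1) = S i + nxt i (r i).1 (r i).2 := fun i => by
      show x - ((r i).1 - _) = x - (r i).1 + _; abel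
    have hSmem : ∀ {a b}, a ≤ b → S b - S a ∈ I ^ (j + a + 1) • G := fun {a b} hab => by
      induction b, hab using Nat.le_induction with
      | base => rw [sub_self]; exact zero_mem _
      | succ b hab ih =>
        rw [hS, add_sub_right_comm]
        exact add_mem ih (Submodule.smul_mono (Ideal.pow_le_pow_right (by omega)) le_rfl (hn b _ _))
    have hS0 : S 0 = 0 := sub_self x
    have hSI : ∀ i, S i ∈ I ^ (j + 1) • G := fun i => by
      have := hSmem (Nat.zero_le i); rwa [hS0, sub_zero, Nat.add_zero] at this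
    have hSG : ∀ i, S i ∈ G := fun i => smul_le_right (hSI i)
    have hcast : ∀ {k : ℕ} {y : G}, (y : H) ∈ I ^ k • G → y ∈ I ^ k • (⊤ : Submodule R G) := fun {k y} hy => by
      have : (I ^ k • (⊤ : Submodule R G)).map G.subtype = I ^ k • G := by
        rw [Submodule.map_smul'', Submodule.map_top, Submodule.range_subtype]
      rw [← this] at hy
      obtain ⟨y', hy', e⟩ := hy
      exact (Subtype.ext e : y' = y) ▸ hy'
    obtain ⟨L, hL⟩ := IsPrecomplete.prec (inferInstance : IsPrecomplete I G)
      (f := fun i => (⟨S i, hSG i⟩ : G)) fun {a b} hab => SModEq.sub_mem.2 (hcast (k := a) (by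
        have := neg_mem (hSmem hab)
        rw [neg_sub] at this
        exact Submodule.smul_mono (Ideal.pow_le_pow_right (by omega)) le_rfl this))
    have hL' : ∀ i, S i - (L : H) ∈ I ^ i • G := fun i => by
      have h1 := Submodule.mem_map_of_mem (f := G.subtype) (SModEq.sub_mem.1 (hL i))
      rwa [Submodule.map_smul'', Submodule.map_top, Submodule.range_subtype] at h1
    have hx' : x = L := by
      refine sub_eq_zero.1 (hzero _ fun n => ?_)
      have h2 : x - (L : H) = (r (n + 1)).1 + (S (n + 1) - L) := by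
        show x - (L : H) = (r (n + 1)).1 + (x - (r (n + 1)).1 - L); abel
      rw [h2]
      exact add_mem (hanti (by omega) (r (n + 1)).2)
        (hpow n (Submodule.smul_mono le_rfl le_top (hL' (n + 1))))
    rw [hx']
    have h3 := sub_mem (hSI (j + 1)) (hL' (j + 1))
    rwa [sub_sub_cancel] at h3
  refine ⟨⟨?_⟩, fun j => (main j).trans (Submodule.smul_mono le_rfl le_top)⟩
  have : (⊤ : Submodule R H) = G := by
    refine le_antisymm (hGtop.symm.le.trans (sup_le le_rfl ((main 0).trans smul_le_right))) le_top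
  rw [this]
  exact hGfg

end Groth.Agent.H26.Edge
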