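import Groth.Agent.H26.FMod.HLim

/-!
# Cohomology on an open of limits of acyclic systems of sheaves
-/

noncomputable section

set_option autoImplicit false
set_option linter.style.haveILetI false
set_option backward.isDefEq.respectTransparency false

universe u

open CategoryTheory CategoryTheory.Limits Opposite Pretriangulated Abelian DerivedCategory

namespace Groth.Agent.H26.EdgeLim

variable {C : Type u} [SmallCategory C] {J : GrothendieckTopology C}
  (F : ℕ → Sheaf J AddCommGrpCat.{u}) (t : ∀ n, F (n + 1) ⟶ F n)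
  (B : Set C) (hB : DLim.IsCoveredBy J B)
  (h1 : ∀ U ∈ B, ∀ (p n : ℕ), Subsingleton (CohSite.HU (F n) (p + 1) U))
  (h2 : ∀ U ∈ B, CohCx.LimOneIsZero (fun n => (F n).obj.obj (op U)) (fun n => ((t n).hom.app (op U)).hom))
  (S : Sheaf J AddCommGrpCat.{u})

include hB h1 h2 in
/-- Compatible families of extension classes lift to the limit. -/
theorem exists_lift (m : ℕ) (y : ∀ n, Ext S (F n) m)
    (hy : ∀ n, (y (n + 1)).comp (Ext.mk₀ (t n)) (add_zero m) = y n) :
    ∃ x : Ext S (limit (CohCx.opSequence F t)) m,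
      ∀ n, x.comp (Ext.mk₀ (limit.π (CohCx.opSequence F t) (op n))) (add_zero m) = y n := by
  letI := HLim.smallD (C := C) (J := J)
  haveI := DLim.hasProduct_nat fun n => (DerivedCategory.singleFunctor (Sheaf J AddCommGrpCat.{u}) 0).obj (F n)
  have hL := HLim.isRlimVia_limit F t (DLim.isRlim_single F t hB h1 h2).1
  obtain ⟨z, hz⟩ := DLim.rlim_exists_lift hL (m : ℤ) (fun n => Ext.hom (y n)) fun n => by
    rw [← HLim.hom_comp_mk₀]; exact congrArg Ext.hom (hy n)
  refine ⟨Ext.homEquiv.symm z, fun n => Ext.homEquiv.injective ?_⟩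
  show Ext.hom ((Ext.homEquiv.symm z).comp (Ext.mk₀ _) (add_zero m)) = Ext.hom (y n)
  rw [HLim.hom_comp_mk₀, ← hz n]
  exact congrArg (fun q => q ≫ _) (Ext.homEquiv.apply_symm_apply z)

include hB h1 h2 in
/-- Classes killed by all projections vanish if the previous system has no `lim¹`. -/
theorem eq_zero_succ (m : ℕ)
    (hone : ∀ b : ∀ n, Ext S (F n) m, ∃ w : ∀ n, Ext S (F n) m,
      ∀ n, w n - (w (n + 1)).comp (Ext.mk₀ (t n)) (add_zero m) = b n)
    (x : Ext S (limit (CohCx.opSequence F t)) (m + 1))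
    (hx : ∀ n, x.comp (Ext.mk₀ (limit.π (CohCx.opSequence F t) (op n))) (add_zero (m + 1)) = 0) : x = 0 := by
  letI := HLim.smallD (C := C) (J := J)
  haveI := DLim.hasProduct_nat fun n => (DerivedCategory.singleFunctor (Sheaf J AddCommGrpCat.{u}) 0).obj (F n)
  have hL := HLim.isRlimVia_limit F t (DLim.isRlim_single F t hB h1 h2).1
  refine Ext.homEquiv.injective ?_
  show Ext.hom x = Ext.hom 0
  rw [Ext.zero_hom]
  refine DLim.rlim_eq_zero hL ((m + 1 : ℕ) : ℤ) ?_ (Ext.hom x) fun n => ?_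
  · obtain ⟨k, hk, hk'⟩ : ∃ k : ℤ, k = (m : ℤ) ∧ k = ((m + 1 : ℕ) : ℤ) - 1 := ⟨m, rfl, by push_cast; ring⟩
    rw [← hk']
    subst hk
    intro b
    obtain ⟨w, hw⟩ := hone fun n => Ext.homEquiv.symm (b n)
    refine ⟨fun n => Ext.hom (w n), fun n => ?_⟩
    rw [← HLim.hom_comp_mk₀]
    have e := congrArg Ext.homAddEquiv (hw n)
    rw [map_sub] at e
    exact e.trans (Ext.homEquiv.apply_symm_apply _)
  · rw [← HLim.hom_comp_mk₀]
    exact (congrArg Ext.hom (hx n)).trans (by rw [Ext.zero_hom])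

/-- Classes of degree zero are separated by the projections. -/
theorem eq_zero_zero (x : Ext S (limit (CohCx.opSequence F t)) 0)
    (hx : ∀ n, x.comp (Ext.mk₀ (limit.π (CohCx.opSequence F t) (op n))) (add_zero 0) = 0) : x = 0 := by
  obtain ⟨φ, rfl⟩ := (Ext.mk₀_bijective S _).2 x
  have : φ = 0 := limit.hom_ext fun n => (Ext.mk₀_bijective S _).1 (by
    rw [zero_comp, Ext.mk₀_zero, ← Ext.mk₀_comp_mk₀]
    exact hx n.unop)
  rw [this, Ext.mk₀_zero]

end Groth.Agent.H26.EdgeLim
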