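import Groth.Agent.H26.Edge.Basic
import Groth.Agent.Lib.PushHNat
import Groth.Agent.SiteBase.Sections

/-!
# Cohomology on opens of a direct image along a closed embedding, naturally
-/

noncomputable section

set_option autoImplicit false
set_option maxHeartbeats 1000000
set_option backward.isDefEq.respectTransparency false
set_option backward.isDefEq.respectTransparency.types false

universe u

open CategoryTheory CategoryTheory.Limits TopologicalSpace Opposite CategoryTheory.Abelian

namespace Groth.Agent.H26.Edge

variable {X Y : TopCat.{u}} (g : X ⟶ Y)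

local notation "JX" => Opens.grothendieckTopology X
local notation "JY" => Opens.grothendieckTopology Y

/-- The map of free sheaves. -/
def freeUnit (W : Opens Y) :
    CohCx.freeSheaf (Opens.grothendieckTopology Y) W ⟶
      (CohTop.push g).obj (CohCx.freeSheaf (Opens.grothendieckTopology X) ((Opens.map g).obj W)) :=
  (SiteBase.secEquiv (Opens.grothendieckTopology Y) W _).symm
    (SiteBase.univSection (Opens.grothendieckTopology X) ((Opens.map g).obj W))

lemma bijective_freeUnit (W : Opens Y) (F : CohTop.Ab X) :
    Function.Bijective fun φ : CohCx.freeSheaf (Opens.grothendieckTopology X) ((Opens.map g).obj W) ⟶ F =>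
      freeUnit g W ≫ (CohTop.push g).map φ := by
  refine (Function.Bijective.of_comp_iff'
    (SiteBase.secEquiv (Opens.grothendieckTopology Y) W ((CohTop.push g).obj F)).bijective _).1 ?_
  have hh : ((SiteBase.secEquiv (Opens.grothendieckTopology Y) W ((CohTop.push g).obj F)) ∘ fun φ =>
      freeUnit g W ≫ (CohTop.push g).map φ) =
      SiteBase.secEquiv (Opens.grothendieckTopology X) ((Opens.map g).obj W) F := funext fun φ => by
    show SiteBase.secEquiv (Opens.grothendieckTopology Y) W _ (freeUnit g W ≫ _) = _
    rw [SiteBase.secEquiv_comp, freeUnit, AddEquiv.apply_symm_apply]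
    rfl
  rw [hh]
  exact (SiteBase.secEquiv (Opens.grothendieckTopology X) ((Opens.map g).obj W) F).bijective

lemma freeUnit_natural {W W' : Opens Y} (i : W' ⟶ W) :
    CohCx.freeSheafMap (Opens.grothendieckTopology Y) i ≫ freeUnit g W =
      freeUnit g W' ≫ (CohTop.push g).map
        (CohCx.freeSheafMap (Opens.grothendieckTopology X) ((Opens.map g).map i)) := by
  apply (SiteBase.secEquiv (Opens.grothendieckTopology Y) W' _).injective
  rw [SiteBase.secEquiv_freeSheafMap, SiteBase.secEquiv_comp, freeUnit, freeUnit, AddEquiv.apply_symm_apply,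
    AddEquiv.apply_symm_apply]
  exact (SiteBase.freeSheafMap_univSection ((Opens.map g).map i)).symm

variable (hg : Topology.IsClosedEmbedding g)

/-- Classes over an open into classes of the direct image. -/
def pushHU (F : CohTop.Ab X) (n : ℕ) (W : Opens Y) :
    CohSite.HU F n ((Opens.map g).obj W) →+ CohSite.HU ((CohTop.push g).obj F) n W :=
  haveI := ClosedEmb.preservesFiniteColimits_push hg
  haveI := PushHNat.preservesFiniteLimits_push g hg
  ((Ext.mk₀ (freeUnit g W)).precomp _ (zero_add n)).comp
    ((CohTop.push g).mapExtAddHom (CohCx.freeSheaf (Opens.grothendieckTopology X) ((Opens.map g).obj W)) F n)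

lemma bijective_pushHU (F : CohTop.Ab X) (n : ℕ) (W : Opens Y) :
    Function.Bijective (pushHU g hg F n W) := by
  haveI := ClosedEmb.preservesFiniteColimits_push hg
  haveI := PushHNat.preservesFiniteLimits_push g hg
  haveI : (CohTop.push g).PreservesInjectiveObjects := ⟨fun {I} hI => SiteBase.injective_push g I⟩
  exact PushHNat.bijective_comp_map (CohTop.push g) (freeUnit g W) (bijective_freeUnit g W) n F

lemma pushHU_map {F F' : CohTop.Ab X} (φ : F ⟶ F') (n : ℕ) (W : Opens Y)
    (x : CohSite.HU F n ((Opens.map g).obj W)) :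
    pushHU g hg F' n W (Ext.comp (x : Ext (CohCx.freeSheaf _ _) F n) (Ext.mk₀ φ) (add_zero n)) =
      Ext.comp (pushHU g hg F n W x : Ext (CohCx.freeSheaf _ W) _ n) (Ext.mk₀ ((CohTop.push g).map φ))
        (add_zero n) := by
  haveI := ClosedEmb.preservesFiniteColimits_push hg
  haveI := PushHNat.preservesFiniteLimits_push g hg
  show (Ext.mk₀ (freeUnit g W)).comp
    ((Ext.comp x (Ext.mk₀ φ) (add_zero n)).mapExactFunctor (CohTop.push g)) (zero_add n) = _
  rw [Ext.mapExactFunctor_comp, Ext.mapExactFunctor_mk₀]
  exact (Ext.comp_assoc_of_third_deg_zero _ _ _ _).symm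

lemma pushHU_res (F : CohTop.Ab X) (n : ℕ) {W W' : Opens Y} (i : W' ⟶ W)
    (x : CohSite.HU F n ((Opens.map g).obj W)) :
    pushHU g hg F n W' (CohSite.res F n ((Opens.map g).map i) x) =
      CohSite.res ((CohTop.push g).obj F) n i (pushHU g hg F n W x) := by
  haveI := ClosedEmb.preservesFiniteColimits_push hg
  haveI := PushHNat.preservesFiniteLimits_push g hg
  show (Ext.mk₀ (freeUnit g W')).comp
    ((Ext.comp (Ext.mk₀ (CohCx.freeSheafMap _ ((Opens.map g).map i))) x (zero_add n)).mapExactFunctor
      (CohTop.push g)) (zero_add n) =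
    Ext.comp (Ext.mk₀ (CohCx.freeSheafMap _ i))
      ((Ext.mk₀ (freeUnit g W)).comp (Ext.mapExactFunctor (CohTop.push g) x) (zero_add n)) (zero_add n)
  rw [Ext.mapExactFunctor_comp, Ext.mapExactFunctor_mk₀, ← Ext.comp_assoc _ _ _ (zero_add 0) (zero_add n)
    (by omega), ← Ext.comp_assoc _ _ _ (zero_add 0) (zero_add n) (by omega), Ext.mk₀_comp_mk₀, Ext.mk₀_comp_mk₀,
    freeUnit_natural]

/-- A bijective map of abelian groups as an isomorphism. -/
def isoOfBij {A B : AddCommGrpCat.{u}} (f : A →+ B) (hf : Function.Bijective f) : A ≅ B where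
  hom := AddCommGrpCat.ofHom f
  inv := AddCommGrpCat.ofHom (AddEquiv.ofBijective f hf).symm.toAddMonoidHom
  hom_inv_id := by
    ext x
    exact (AddEquiv.ofBijective f hf).symm_apply_apply x
  inv_hom_id := by
    ext x
    exact (AddEquiv.ofBijective f hf).apply_symm_apply x

/-- Cohomology presheaves of a direct image along a closed embedding. -/
def hpPush (F : CohTop.Ab X) (n : ℕ) :
    (Opens.map g).op ⋙ Sheaf.cohomologyPresheaf.{u} F n ≅
      Sheaf.cohomologyPresheaf.{u} ((CohTop.push g).obj F) n :=
  NatIso.ofComponents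
    (fun W => isoOfBij (pushHU g hg F n W.unop) (bijective_pushHU g hg F n W.unop))
    fun {W W'} i => AddCommGrpCat.hom_ext (AddMonoidHom.ext fun x => pushHU_res g hg F n i.unop x)

lemma hpPush_natural {F F' : CohTop.Ab X} (φ : F ⟶ F') (n : ℕ) :
    Functor.whiskerLeft (Opens.map g).op ((Sheaf.cohomologyPresheafFunctor.{u} _ n).map φ) ≫ (hpPush g hg F' n).hom =
      (hpPush g hg F n).hom ≫ (Sheaf.cohomologyPresheafFunctor.{u} _ n).map ((CohTop.push g).map φ) := by
  ext W x
  exact pushHU_map g hg φ n W.unop x

end Groth.Agent.H26.Edge
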