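import Groth.Agent.Lib.PushHNat
import Groth.Agent.QCoh.Ab.Restrict
import Groth.Agent.SiteBase.Sections
import Groth.Agent.SiteBase.ExtByZero
import Groth.Agent.SiteBase.Global
import Groth.Agent.S0488

/-!
# Cohomology over an open as cohomology of the restriction, naturally
-/

noncomputable section

set_option autoImplicit false
set_option maxHeartbeats 1000000
set_option backward.isDefEq.respectTransparency false
set_option backward.isDefEq.respectTransparency.types false

universe u

open CategoryTheory CategoryTheory.Limits TopologicalSpace Opposite CategoryTheory.Abelian Topology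

namespace Groth.Agent.H26.Edge

variable {X : TopCat.{u}} (V : Opens X)

/-- Restriction to an open. -/
abbrev R : CohTop.Ab X ⥤ CohTop.Ab (TopCat.of V) := CohTop.restrFunctor V

/-- The image of an open of the open. -/
abbrev img (W : Opens (TopCat.of V)) : Opens X := V.isOpenEmbedding.isOpenMap.functor.obj W

lemma img_top : img V ⊤ = V := Opens.ext (by
  show Subtype.val '' (Set.univ : Set V) = (V : Set X)
  simp)

lemma preservesFiniteLimits_R : PreservesFiniteLimits (R V) :=
  QCoh.Ab.preservesFiniteLimits_restr (j := V.inclusion') V.isOpenEmbedding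

lemma preservesEpimorphisms_R : (R V).PreservesEpimorphisms := ⟨fun {F G} g _ => by
  have hS : (ShortComplex.mk (kernel.ι g) g (kernel.condition g)).ShortExact :=
    { exact := ShortComplex.exact_kernel g }
  exact (QCoh.Ab.restr_shortExact (j := V.inclusion') V.isOpenEmbedding hS).epi_g⟩

lemma preservesFiniteColimits_R : PreservesFiniteColimits (R V) := by
  haveI := preservesFiniteLimits_R V
  haveI := preservesEpimorphisms_R V
  haveI : (R V).PreservesHomology := Functor.preservesHomology_of_preservesEpis_and_kernels _
  exact (R V).preservesFiniteColimits_of_preservesHomology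

lemma injective_R (J : CohTop.Ab X) [Injective J] : Injective ((R V).obj J) := by
  let P := (Opens.grothendieckTopology X).overPullback AddCommGrpCat.{u} V
  let E : Sheaf ((Opens.grothendieckTopology X).over V) AddCommGrpCat.{u} ≌ CohTop.Ab (TopCat.of V) :=
    V.sheafEquivOver
  have := Groth.Agent.SiteBase.injective_over (J := Opens.grothendieckTopology X) V J
  exact @Injective.injective_of_adjoint _ _ _ _ _ _ inferInstance E.symm.toAdjunction _ this

/-- The map of free sheaves. -/
def freeUnitR (W : Opens (TopCat.of V)) :
    CohCx.freeSheaf (Opens.grothendieckTopology (TopCat.of V)) W ⟶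
      (R V).obj (CohCx.freeSheaf (Opens.grothendieckTopology X) (img V W)) :=
  (SiteBase.secEquiv (Opens.grothendieckTopology (TopCat.of V)) W _).symm
    (SiteBase.univSection (Opens.grothendieckTopology X) (img V W))

lemma bijective_freeUnitR (W : Opens (TopCat.of V)) (F : CohTop.Ab X) :
    Function.Bijective fun φ : CohCx.freeSheaf (Opens.grothendieckTopology X) (img V W) ⟶ F =>
      freeUnitR V W ≫ (R V).map φ := by
  refine (Function.Bijective.of_comp_iff'
    (SiteBase.secEquiv (Opens.grothendieckTopology (TopCat.of V)) W ((R V).obj F)).bijective _).1 ?_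
  have hh : ((SiteBase.secEquiv (Opens.grothendieckTopology (TopCat.of V)) W ((R V).obj F)) ∘ fun φ =>
      freeUnitR V W ≫ (R V).map φ) =
      SiteBase.secEquiv (Opens.grothendieckTopology X) (img V W) F := funext fun φ => by
    show SiteBase.secEquiv (Opens.grothendieckTopology (TopCat.of V)) W _ (freeUnitR V W ≫ _) = _
    rw [SiteBase.secEquiv_comp, freeUnitR, AddEquiv.apply_symm_apply]
    rfl
  rw [hh]
  exact (SiteBase.secEquiv (Opens.grothendieckTopology X) (img V W) F).bijective

/-- Classes over an open restricted to the open as a space. -/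
def restrH (F : CohTop.Ab X) (n : ℕ) :
    CohSite.HU F n (img V ⊤) →+ CohTop.H ((R V).obj F) n :=
  haveI := preservesFiniteLimits_R V
  haveI := preservesFiniteColimits_R V
  (SiteBase.huTerminalEquiv isTerminalTop ((R V).obj F) n).toAddMonoidHom.comp
    (((Ext.mk₀ (freeUnitR V ⊤)).precomp _ (zero_add n)).comp
      ((R V).mapExtAddHom (CohCx.freeSheaf (Opens.grothendieckTopology X) (img V ⊤)) F n))

lemma bijective_restrH (F : CohTop.Ab X) (n : ℕ) : Function.Bijective (restrH V F n) := by
  haveI := preservesFiniteLimits_R V
  haveI := preservesFiniteColimits_R V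
  haveI : (R V).PreservesInjectiveObjects := ⟨fun {I} hI => @injective_R _ V I hI⟩
  exact (SiteBase.huTerminalEquiv isTerminalTop ((R V).obj F) n).bijective.comp
    (PushHNat.bijective_comp_map (R V) (freeUnitR V ⊤) (bijective_freeUnitR V ⊤) n F)

lemma bijective_restrHW (W : Opens (TopCat.of V)) (F : CohTop.Ab X) (n : ℕ) :
    Function.Bijective (fun x : CohSite.HU F n (img V W) =>
      haveI := preservesFiniteLimits_R V
      haveI := preservesFiniteColimits_R V
      (show CohSite.HU ((R V).obj F) n W from (Ext.mk₀ (freeUnitR V W)).comp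
        (Ext.mapExactFunctor (R V) (x : Ext (CohCx.freeSheaf _ (img V W)) F n)) (zero_add n))) := by
  haveI := preservesFiniteLimits_R V
  haveI := preservesFiniteColimits_R V
  haveI : (R V).PreservesInjectiveObjects := ⟨fun {I} hI => @injective_R _ V I hI⟩
  exact PushHNat.bijective_comp_map (R V) (freeUnitR V W) (bijective_freeUnitR V W) n F

lemma restrH_map {F F' : CohTop.Ab X} (φ : F ⟶ F') (n : ℕ)
    (x : Ext (CohCx.freeSheaf (Opens.grothendieckTopology X) (img V ⊤)) F n) :
    restrH V F' n (x.comp (Ext.mk₀ φ) (add_zero n)) = Sheaf.H.map ((R V).map φ) n (restrH V F n x) := by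
  haveI := preservesFiniteLimits_R V
  haveI := preservesFiniteColimits_R V
  show (Ext.mk₀ _).comp ((Ext.mk₀ (freeUnitR V ⊤)).comp
      ((Ext.comp x (Ext.mk₀ φ) (add_zero n)).mapExactFunctor (R V)) (zero_add n)) (zero_add n) =
    ((Ext.mk₀ _).comp ((Ext.mk₀ (freeUnitR V ⊤)).comp (x.mapExactFunctor (R V)) (zero_add n)) (zero_add n)).comp
      (Ext.mk₀ ((R V).map φ)) (add_zero n)
  rw [Ext.mapExactFunctor_comp, Ext.mapExactFunctor_mk₀, Ext.comp_assoc_of_third_deg_zero,
    Ext.comp_assoc_of_third_deg_zero]

end Groth.Agent.H26.Edge
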