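import Groth.Agent.SiteBase.DerivedPrecompAcyclic
import Groth.Agent.SiteBase.DerivedComp
import Groth.Agent.SiteBase.ModKill
import Groth.Agent.SiteBase.HKRep
import Groth.Agent.SiteBase.Rpush
import Groth.Agent.QCoh.ToSheaf
import Groth.Agent.QCoh.RpushModel

/-!
# Higher direct images of modules on the underlying abelian sheaves
-/

noncomputable section

set_option autoImplicit false
set_option maxHeartbeats 1000000
set_option backward.isDefEq.respectTransparency false
set_option backward.isDefEq.respectTransparency.types false

universe u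

open CategoryTheory CategoryTheory.Limits Opposite

namespace Groth.Agent.H26.Edge

variable {C D : Type u} [SmallCategory C] [SmallCategory D]
  {J : GrothendieckTopology C} {K : GrothendieckTopology D}
  {O_C : Sheaf J CommRingCat.{u}} {O_D : Sheaf K CommRingCat.{u}}

/-- Higher direct images of modules are those of the underlying abelian sheaves. -/
theorem nonempty_rpush_toSheaf (f : ModSite.RMor O_C O_D) [HasInjectiveResolutions (ModSite.Mod O_C)] (q : ℕ) :
    Nonempty (f.Rpush q ⋙ SheafOfModules.toSheaf (ModSite.ringSh O_D) ≅
      SheafOfModules.toSheaf (ModSite.ringSh O_C) ⋙ CohSite.Rpush J K f.fn q) := by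
  haveI := SpObjSS.enoughInjectives_of_hasInjectiveResolutions (C := ModSite.Mod O_C)
  haveI : PreservesFiniteLimits f.push := inferInstance
  haveI : PreservesFiniteLimits (SheafOfModules.toSheaf (ModSite.ringSh O_D)) := inferInstance
  obtain ⟨e⟩ := SiteBase.nonempty_rightDerived_precomp_of_acyclic
    (SheafOfModules.toSheaf (ModSite.ringSh O_C)) (CohSite.push J K f.fn)
    (fun Q hQ i => SiteBase.isZero_rpush_of_subsingleton J K f.fn (i + 1) _ fun V =>
      haveI := hQ
      SiteBase.subsingleton_HU_of_totallyAcyclic
        (SiteBase.isTotallyAcyclic_toSheaf_injective (ModSite.ringSh O_C) Q) (f.fn.obj V) i) q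
  let θ : f.push ⋙ SheafOfModules.toSheaf (ModSite.ringSh O_D) ≅
      SheafOfModules.toSheaf (ModSite.ringSh O_C) ⋙ CohSite.push J K f.fn :=
    NatIso.ofComponents (fun _ => Iso.refl _)
      (fun g => (Category.comp_id _).trans (Category.id_comp _).symm)
  exact ⟨(SiteBase.rightDerivedCompIso f.push (SheafOfModules.toSheaf (ModSite.ringSh O_D)) q).symm ≪≫
    SiteBase.rightDerivedCongr θ q ≪≫ e⟩

end Groth.Agent.H26.Edge
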