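import Groth.Agent.H26.Edge.Push
import Groth.Agent.QCoh.RpushAbGod
import Groth.Agent.QCoh.RpushGod
import Groth.Agent.QCoh.Bound
import Groth.Agent.SiteBase.Top

/-!
# Quasi-coherent modules, and transport along homeomorphisms
-/

noncomputable section

set_option autoImplicit false
set_option maxHeartbeats 1000000
set_option backward.isDefEq.respectTransparency false
set_option backward.isDefEq.respectTransparency.types false

universe u

open CategoryTheory CategoryTheory.Limits TopologicalSpace Opposite AlgebraicGeometry

namespace Groth.Agent.H26.Edge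

/-- Good opens for quasi-coherent modules are the affine ones. -/
theorem good_qcoh {X Y : Scheme.{u}} (f : X ⟶ Y) [QuasiCompact f] [QuasiSeparated f] {M : X.Modules}
    (hM : Coh.IsQCoh M) (q : ℕ) :
    Good (Opens.grothendieckTopology X.toPresheafedSpace.carrier) (Opens.grothendieckTopology Y.toPresheafedSpace.carrier)
      (Opens.map f.base) (fun U : Y.Opens => IsAffineOpen U) q (QCoh.abSheaf M) := by
  refine good_of_vanish (fun I hI => @SiteBase.injective_push _ _ f.base I hI) q _ fun i j V hV => ?_
  let e : ∀ i, (Coh.RpushAb f i).obj (Coh.toAb M) ≅ (Hs (Opens.grothendieckTopology X.toPresheafedSpace.carrier)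
      (Opens.grothendieckTopology Y.toPresheafedSpace.carrier) (Opens.map f.base) i).obj (QCoh.abSheaf M) :=
    fun i => (SiteBase.rpushIso (Opens.grothendieckTopology X.toPresheafedSpace.carrier)
      (Opens.grothendieckTopology Y.toPresheafedSpace.carrier) (Opens.map f.base) i).app (QCoh.abSheaf M)
  match i with
  | 0 =>
    obtain ⟨e₀⟩ := QCoh.nonempty_RpushAb_zero_iso f M
    exact subsingleton_of_iso (e₀.symm ≪≫ e 0)
      (QCoh.subsingleton_HU_of_isAffineOpen (QCoh.isQCoh_pushforward f hM) hV j)
  | i + 1 =>
    obtain ⟨e₁⟩ := QCoh.nonempty_RpushAb_iso f M i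
    exact subsingleton_of_iso (e₁.symm ≪≫ e (i + 1))
      (QCoh.subsingleton_HU_of_isAffineOpen (QCoh.locRange_rpushModel f hM i).isQCoh hV j)

section Transport

variable {X X' Y Y' : TopCat.{u}} (f : X ⟶ Y) (f' : X' ⟶ Y') (g : X' ⟶ X) (g' : Y' ⟶ Y)
  (w : g ≫ f = f' ≫ g') (hg : Topology.IsClosedEmbedding g)

include w hg in
lemma nonempty_hp_push_iso (F : CohTop.Ab X') (q : ℕ) :
    Nonempty ((Hp (Opens.grothendieckTopology X) (Opens.map f) q).obj ((CohTop.push g).obj F) ≅
      (Opens.map g').op ⋙ (Hp (Opens.grothendieckTopology X') (Opens.map f') q).obj F) := by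
  let e : (Opens.map f).op ⋙ (Opens.map g).op ≅ (Opens.map g').op ⋙ (Opens.map f').op :=
    NatIso.ofComponents
      (fun V => eqToIso (congrArg op (congrArg (fun t => (Opens.map t).obj V.unop) w)))
      (fun _ => Subsingleton.elim _ _)
  exact ⟨Functor.isoWhiskerLeft (Opens.map f).op (hpPush g hg F q).symm ≪≫ (Functor.associator _ _ _).symm ≪≫
    Functor.isoWhiskerRight e _ ≪≫ Functor.associator _ _ _⟩

variable [(Opens.map g').IsCocontinuous (Opens.grothendieckTopology Y) (Opens.grothendieckTopology Y')]

include w hg in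
/-- Good opens transport along homeomorphisms. -/
theorem good_push {B : Opens Y → Prop} {B' : Opens Y' → Prop} (hB : ∀ V, B V → B' ((Opens.map g').obj V))
    (F : CohTop.Ab X') (q : ℕ)
    (h : Good (Opens.grothendieckTopology X') (Opens.grothendieckTopology Y') (Opens.map f') B' q F) :
    Good (Opens.grothendieckTopology X) (Opens.grothendieckTopology Y) (Opens.map f) B q
      ((CohTop.push g).obj F) := by
  obtain ⟨e⟩ := nonempty_hp_push_iso f f' g g' w hg F q
  refine Good.of_iso e fun V hV => ?_
  let P := (Hp (Opens.grothendieckTopology X') (Opens.map f') q).obj F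
  let c := ((Opens.map g').pushforwardContinuousSheafificationCompatibility AddCommGrpCat.{u}
    (Opens.grothendieckTopology Y) (Opens.grothendieckTopology Y')).hom.app P
  have hc := congrArg (fun t => t.app (op V))
    ((Opens.map g').toSheafify_pullbackSheafificationCompatibility AddCommGrpCat.{u}
      (Opens.grothendieckTopology Y) (Opens.grothendieckTopology Y') P)
  haveI : IsIso (c.hom.app (op V)) :=
    inferInstanceAs (IsIso (((sheafToPresheaf _ _).map c).app (op V)))
  have hb := ConcreteCategory.bijective_of_isIso (c.hom.app (op V))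
  refine (Function.Bijective.of_comp_iff' hb _).1 ?_
  have hcx : ∀ x, (c.hom.app (op V)).hom
      (((toSheafify (Opens.grothendieckTopology Y) ((Opens.map g').op ⋙ P)).app (op V)).hom x) =
      ((toSheafify (Opens.grothendieckTopology Y') P).app (op ((Opens.map g').obj V))).hom x :=
    fun x => congrArg (fun t => t x) hc
  refine ⟨fun a b hab => (h _ (hB V hV)).1 ((hcx a).symm.trans (hab.trans (hcx b))), fun y => ?_⟩
  obtain ⟨x, hx⟩ := (h _ (hB V hV)).2 y
  exact ⟨x, (hcx x).trans hx⟩

end Transport

end Groth.Agent.H26.Edge
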