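import Groth.Agent.H26.Edge.RpushMod
import Groth.Agent.H26.Edge.DerivedSmul
import Groth.Agent.H26.Edge.Scheme
import Groth.Agent.KFlatLib.Scheme.RpushRestrict
import Groth.Agent.SiteBase.Sections
import Groth.Agent.S0036
import Groth.Prelude.Def_Formal
import Groth.Prelude.Def_ega3

/-!
# Higher direct images over an open of the base, and global sections over an affine base
-/

noncomputable section

set_option autoImplicit false
set_option maxHeartbeats 1000000
set_option linter.style.haveILetI false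
set_option backward.isDefEq.respectTransparency false
set_option backward.isDefEq.respectTransparency.types false

universe u

open CategoryTheory CategoryTheory.Limits TopologicalSpace Opposite AlgebraicGeometry

namespace Groth.Agent.H26.Edge

variable {X Y : Scheme.{u}} (f : X ⟶ Y) (U : Y.Opens) (q : ℕ)

/-- Higher direct images restrict to opens of the base, naturally. -/
theorem nonempty_rpush_restrictFunctor [HasInjectiveResolutions X.Modules]
    [HasInjectiveResolutions (↑(f ⁻¹ᵁ U) : Scheme.{u}).Modules] :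
    Nonempty (Coh.Rpush f q ⋙ Scheme.Modules.restrictFunctor U.ι ≅
      Scheme.Modules.restrictFunctor (f ⁻¹ᵁ U).ι ⋙ Coh.Rpush (f ∣_ U) q) := by
  haveI := SpObjSS.enoughInjectives_of_hasInjectiveResolutions (C := X.Modules)
  haveI := SpObjSS.enoughInjectives_of_hasInjectiveResolutions (C := (↑(f ⁻¹ᵁ U) : Scheme.{u}).Modules)
  let R : X.Modules ⥤ (↑(f ⁻¹ᵁ U) : Scheme.{u}).Modules := Scheme.Modules.restrictFunctor (f ⁻¹ᵁ U).ι
  let RU : Y.Modules ⥤ (↑U : Scheme.{u}).Modules := Scheme.Modules.restrictFunctor U.ι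
  haveI : R.IsRightAdjoint := KFlatLib.isRightAdjoint_restrictFunctor _
  haveI : RU.IsRightAdjoint := KFlatLib.isRightAdjoint_restrictFunctor _
  haveI : R.IsLeftAdjoint := inferInstanceAs ((Scheme.Modules.restrictFunctor (f ⁻¹ᵁ U).ι).IsLeftAdjoint)
  haveI : RU.IsLeftAdjoint := inferInstanceAs ((Scheme.Modules.restrictFunctor U.ι).IsLeftAdjoint)
  haveI : PreservesLimitsOfSize.{0, 0} R := (Adjunction.ofIsRightAdjoint R).rightAdjoint_preservesLimits
  haveI : PreservesLimitsOfSize.{0, 0} RU := (Adjunction.ofIsRightAdjoint RU).rightAdjoint_preservesLimits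
  haveI : PreservesColimitsOfSize.{0, 0} R := (Adjunction.ofIsLeftAdjoint R).leftAdjoint_preservesColimits
  haveI : PreservesColimitsOfSize.{0, 0} RU := (Adjunction.ofIsLeftAdjoint RU).leftAdjoint_preservesColimits
  haveI : PreservesFiniteLimits R := PreservesLimitsOfSize.preservesFiniteLimits _
  haveI : PreservesFiniteLimits RU := PreservesLimitsOfSize.preservesFiniteLimits _
  haveI : PreservesFiniteColimits R := PreservesColimitsOfSize.preservesFiniteColimits _
  haveI : PreservesFiniteColimits RU := PreservesColimitsOfSize.preservesFiniteColimits _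
  haveI : R.Additive := Functor.additive_of_preserves_binary_products R
  haveI : RU.Additive := Functor.additive_of_preserves_binary_products RU
  haveI : PreservesFiniteLimits (Scheme.Modules.pushforward (f ∣_ U)) := QCoh.preservesFiniteLimits_push _
  obtain ⟨e⟩ := SiteBase.nonempty_rightDerived_precomp_of_acyclic R (Scheme.Modules.pushforward (f ∣_ U))
    (fun Q hQ i => by
      haveI := hQ
      haveI : Injective (R.obj Q) := Injective.injective_of_adjoint (KFlatLib.lshAdj (f ⁻¹ᵁ U).ι) Q
      exact Functor.isZero_rightDerived_obj_injective_succ _ i _) q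
  exact ⟨(SiteBase.rightDerivedCompIso (Scheme.Modules.pushforward f) RU q).symm ≪≫
    SiteBase.rightDerivedCongr (KFlatLib.pushRestrictIso f U) q ≪≫ e⟩

variable [HasInjectiveResolutions X.Modules]

lemma smulModΓ_naturality {Z : Scheme.{u}} {M N : Z.Modules} (φ : M ⟶ N) (r : Coh.Γtop Z) :
    φ ≫ Formal.smulModΓ N r = Formal.smulModΓ M r ≫ φ :=
  Scheme.Modules.hom_ext _ _ fun V => by
    ext x
    exact (Scheme.Modules.Hom.app_smul φ _ x).symm

/-- Scalars of the base act on higher direct images through their images. -/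
theorem rpush_smulModΓ (a : Coh.Γtop Y) (M : X.Modules) :
    (Coh.Rpush f q).map (Formal.smulModΓ M (f.appTop.hom a)) = Formal.smulModΓ ((Coh.Rpush f q).obj M) a :=
  rightDerived_map_end (Scheme.Modules.pushforward f)
    ⟨fun M => Formal.smulModΓ M (f.appTop.hom a), fun _ _ φ => smulModΓ_naturality φ _⟩
    ⟨fun N => Formal.smulModΓ N a, fun _ _ φ => smulModΓ_naturality φ _⟩
    (fun M => Scheme.Modules.hom_ext _ _ fun V => by
      ext x
      show (show Γ(X, f ⁻¹ᵁ V) from X.presheaf.map (homOfLE (le_top : f ⁻¹ᵁ V ≤ ⊤)).op (f.appTop.hom a)) • (show Γ(M, f ⁻¹ᵁ V) from x) =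
        (f.app V).hom (Y.presheaf.map (homOfLE (le_top : V ≤ ⊤)).op a) • (show Γ(M, f ⁻¹ᵁ V) from x)
      exact congrArg (· • (show Γ(M, f ⁻¹ᵁ V) from x))
        (congrArg (fun t => t.hom a) (f.naturality (homOfLE (le_top : V ≤ ⊤)).op)).symm) q M

/-- A composite of bijections of sections. -/
lemma bijective_app_comp {D : Type*} [Category D] {P Q R : D ⥤ AddCommGrpCat.{u}} (a : P ⟶ Q) (b : Q ⟶ R) [IsIso b]
    (V : D) (ha : Function.Bijective (a.app V).hom) {H : Type*} [AddCommGroup H] (e : H ≃+ P.obj V) :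
    Function.Bijective ((((a ≫ b).app V).hom).comp e.toAddMonoidHom) :=
  ((ConcreteCategory.bijective_of_isIso (b.app V)).comp ha).comp e.bijective

/-- Global classes as global sections of higher direct images over an affine base. -/
theorem exists_global_sections [QuasiCompact f] [QuasiSeparated f] [IsAffine Y] :
    ∃ ξ : ∀ M : X.Modules, Coh.HH X M q →+ Γ((Coh.Rpush f q).obj M, ⊤),
      (∀ {M M' : X.Modules} (α : M ⟶ M') (x : Coh.HH X M q),
        ξ M' (Sheaf.H.map ((SheafOfModules.toSheaf X.ringCatSheaf).map α) q x) =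
          ((Coh.Rpush f q).map α).app ⊤ (ξ M x)) ∧
      (∀ M : X.Modules, Coh.IsQCoh M → Function.Bijective (ξ M)) := by
  let JX := Opens.grothendieckTopology X.toPresheafedSpace.carrier
  let JY := Opens.grothendieckTopology Y.toPresheafedSpace.carrier
  haveI : HasInjectiveResolutions (ModSite.Mod X.sheaf) := inferInstanceAs (HasInjectiveResolutions X.Modules)
  obtain ⟨e⟩ := nonempty_rpush_toSheaf (ModSite.RMor.ofScheme f) q
  obtain ⟨E⟩ : Nonempty (Coh.Rpush f q ⋙ SheafOfModules.toSheaf Y.ringCatSheaf ≅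
      SheafOfModules.toSheaf X.ringCatSheaf ⋙ Hs JX JY (Opens.map f.base) q) :=
    ⟨e ≪≫ Functor.isoWhiskerLeft (SheafOfModules.toSheaf X.ringCatSheaf) (SiteBase.rpushIso JX JY (Opens.map f.base) q)⟩
  let η : ∀ M : X.Modules, (Hp JX (Opens.map f.base) q).obj (QCoh.abSheaf M) ⟶
      ((SheafOfModules.toSheaf Y.ringCatSheaf).obj ((Coh.Rpush f q).obj M)).obj := fun M =>
    toSheafify JY _ ≫ (E.inv.app M).hom
  have hη : ∀ {M M' : X.Modules} (α : M ⟶ M'),
      (Hp JX (Opens.map f.base) q).map ((SheafOfModules.toSheaf X.ringCatSheaf).map α) ≫ η M' =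
        η M ≫ ((SheafOfModules.toSheaf Y.ringCatSheaf).map ((Coh.Rpush f q).map α)).hom := fun {M M'} α => by
    show _ ≫ toSheafify JY _ ≫ _ = (toSheafify JY _ ≫ _) ≫ _
    rw [← Category.assoc, toSheafify_naturality, Category.assoc, Category.assoc]
    exact congrArg (_ ≫ ·) (congrArg (sheafToPresheaf _ AddCommGrpCat.{u}).map (E.inv.naturality α))
  refine ⟨fun M => AddMonoidHom.comp ((η M).app (op ⊤)).hom
    (SiteBase.huTerminalEquiv (T := f ⁻¹ᵁ ⊤) isTerminalTop (QCoh.abSheaf M) q).symm.toAddMonoidHom,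
    fun {M M'} α x => ?_, fun M hM => ?_⟩
  · refine Eq.trans (congrArg ((η M').app (op ⊤)).hom ?_)
      (congrArg (fun t => t.app (op ⊤) ((SiteBase.huTerminalEquiv (T := f ⁻¹ᵁ ⊤) isTerminalTop (QCoh.abSheaf M) q).symm x))
        (hη α))
    show (CategoryTheory.Abelian.Ext.mk₀ _).comp (CategoryTheory.Abelian.Ext.comp x
        (CategoryTheory.Abelian.Ext.mk₀ ((SheafOfModules.toSheaf X.ringCatSheaf).map α)) (add_zero q)) (zero_add q) =
      CategoryTheory.Abelian.Ext.comp ((CategoryTheory.Abelian.Ext.mk₀ _).comp x (zero_add q))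
        (CategoryTheory.Abelian.Ext.mk₀ ((SheafOfModules.toSheaf X.ringCatSheaf).map α)) (add_zero q)
    rw [CategoryTheory.Abelian.Ext.comp_assoc_of_third_deg_zero]
  · haveI : IsIso (E.inv.app M).hom := inferInstanceAs (IsIso ((sheafToPresheaf _ _).map (E.inv.app M)))
    exact bijective_app_comp (toSheafify JY ((Hp JX (Opens.map f.base) q).obj (QCoh.abSheaf M))) (E.inv.app M).hom
      (op (⊤ : Y.Opens)) (good_qcoh f hM q ⊤ (isAffineOpen_top Y))
      (SiteBase.huTerminalEquiv (T := f ⁻¹ᵁ ⊤) isTerminalTop (QCoh.abSheaf M) q).symm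

end Groth.Agent.H26.Edge
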